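import Groth.Agent.S4562
import Mathlib.RingTheory.NoetherNormalization
import Mathlib.RingTheory.Polynomial.UniqueFactorization
import Mathlib.FieldTheory.PurelyInseparable.Exponent
import Mathlib.FieldTheory.IsAlgClosed.AlgebraicClosure

/-!
Integral closures of algebras of finite type over a field in finite extensions are finite.
-/

set_option linter.style.haveILetI false
universe u

open MvPolynomial

namespace Groth.Agent.N2Field

variable {k : Type u} [Field k] {d : ℕ}

/-- The polynomials with coefficients in a subfield. -/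
noncomputable def P0 (k0 : Subfield k) : Subring (MvPolynomial (Fin d) k) :=
  (MvPolynomial.map (σ := Fin d) k0.subtype).range

theorem C_mem_P0 {k0 : Subfield k} {a : k} (ha : a ∈ k0) : C a ∈ P0 (d := d) k0 :=
  ⟨C ⟨a, ha⟩, by simp⟩

theorem X_mem_P0 (k0 : Subfield k) (i : Fin d) : X i ∈ P0 (d := d) k0 := ⟨X i, by simp⟩

theorem mem_P0_of_coeff {k0 : Subfield k} {f : MvPolynomial (Fin d) k} (h : ∀ n, coeff n f ∈ k0) : f ∈ P0 k0 := by
  rw [f.as_sum]
  refine Subring.sum_mem _ fun n _ => ?_
  exact ⟨monomial n ⟨coeff n f, h n⟩, by simp [map_monomial]⟩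

theorem mem_P0_of_mul (k0 : Subfield k) {f s : MvPolynomial (Fin d) k} (hs : s ∈ P0 k0) (hs0 : s ≠ 0)
    (h : f * s ∈ P0 k0) : f ∈ P0 k0 := by
  classical
  obtain ⟨s', rfl⟩ := hs
  obtain ⟨r, hr⟩ := h
  obtain ⟨π, hπ⟩ := (Algebra.linearMap k0 k).exists_leftInverse_of_injective
    (LinearMap.ker_eq_bot.2 Subtype.val_injective)
  let g : MvPolynomial (Fin d) k0 := ∑ n ∈ f.support, monomial n (π (coeff n f))
  have hg : ∀ n, coeff n g = π (coeff n f) := fun n => by
    simp only [g, coeff_sum, coeff_monomial]
    rw [Finset.sum_ite_eq' f.support n]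
    split_ifs with hn
    · rfl
    · rw [notMem_support_iff.1 hn, map_zero]
  have hgs : g * s' = r := by
    refine MvPolynomial.ext _ _ fun n => ?_
    have h1 : π (coeff n (f * MvPolynomial.map k0.subtype s')) = π ((k0.subtype) (coeff n r)) := by
      rw [← hr, coeff_map]
    rw [show (k0.subtype) (coeff n r) = Algebra.linearMap k0 k (coeff n r) from rfl, ← LinearMap.comp_apply,
      hπ, LinearMap.id_apply, coeff_mul, map_sum] at h1
    rw [← h1, coeff_mul]
    refine Finset.sum_congr rfl fun x _ => ?_
    rw [hg, coeff_map, mul_comm (coeff x.1 f), show k0.subtype (coeff x.2 s') * coeff x.1 f = coeff x.2 s' • coeff x.1 f from rfl,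
      map_smul, smul_eq_mul, mul_comm]
  refine ⟨g, mul_right_cancel₀ hs0 ?_⟩
  rw [← map_mul, hgs, hr]

/-- The purely inseparable case. -/
theorem finite_integralClosure_pi (E : Type u) [Field E] [Algebra (MvPolynomial (Fin d) k) E]
    [Algebra (FractionRing (MvPolynomial (Fin d) k)) E]
    [IsScalarTower (MvPolynomial (Fin d) k) (FractionRing (MvPolynomial (Fin d) k)) E]
    [FiniteDimensional (FractionRing (MvPolynomial (Fin d) k)) E]
    [IsPurelyInseparable (FractionRing (MvPolynomial (Fin d) k)) E] :
    Module.Finite (MvPolynomial (Fin d) k) (integralClosure (MvPolynomial (Fin d) k) E) := by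
  classical
  let R := MvPolynomial (Fin d) k
  let F := FractionRing R
  let Ω := AlgebraicClosure E
  obtain ⟨p, hp⟩ := ExpChar.exists k
  haveI : ExpChar R p := inferInstance
  haveI : ExpChar F p := expChar_of_injective_ringHom (IsFractionRing.injective R F) p
  haveI : ExpChar E p := expChar_of_injective_ringHom (algebraMap F E).injective p
  haveI : ExpChar Ω p := expChar_of_injective_ringHom (algebraMap E Ω).injective p
  let q := p ^ IsPurelyInseparable.exponent F E
  have hq : 0 < q := pow_pos (expChar_pos k p) _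
  have hpow : ∀ z : E, ∃ w : F, algebraMap F E w = z ^ q := fun z =>
    IsPurelyInseparable.exponent_def' F p z
  let b := Module.finBasis F E
  choose w hw using fun i => hpow (b i)
  choose r s hs hrs using fun i => IsFractionRing.div_surjective R (w i)
  let C0 : Finset k := Finset.univ.biUnion fun i => (r i).coeffs ∪ (s i).coeffs
  let ι : R →+* Ω := algebraMap R Ω
  choose ω hω using fun g : R => IsAlgClosed.exists_pow_nat_eq (ι g) hq
  let G : Set Ω := ω '' (((fun c => C c) '' (C0 : Set k)) ∪ Set.range (X : Fin d → R))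
  let R' : Subalgebra R Ω := Algebra.adjoin R G
  haveI : Module.Finite R R' := by
    refine Module.Finite.iff_fg.2 (fg_adjoin_of_finite ?_ ?_)
    · exact Set.Finite.image _ (((Finset.finite_toSet _).image _).union (Set.finite_range _))
    · rintro _ ⟨g, -, rfl⟩
      exact IsIntegral.of_pow hq (by rw [hω]; exact isIntegral_algebraMap)
  -- elements with a `q`-th root in `R'`
  let T : Subring R :=
    { carrier := {f | ∃ v ∈ R', v ^ q = ι f}
      one_mem' := ⟨1, one_mem _, by simp⟩
      zero_mem' := ⟨0, zero_mem _, by simp [hq.ne']⟩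
      mul_mem' := by
        rintro f g ⟨v, hv, hvq⟩ ⟨v', hv', hvq'⟩
        exact ⟨v * v', mul_mem hv hv', by rw [mul_pow, hvq, hvq', map_mul]⟩
      add_mem' := by
        rintro f g ⟨v, hv, hvq⟩ ⟨v', hv', hvq'⟩
        exact ⟨v + v', add_mem hv hv', by rw [add_pow_expChar_pow, hvq, hvq', map_add]⟩
      neg_mem' := by
        rintro f ⟨v, hv, hvq⟩
        refine ⟨-v, neg_mem hv, ?_⟩
        have h0 : (-v + v) ^ q = 0 := by rw [neg_add_cancel, zero_pow hq.ne']
        rw [add_pow_expChar_pow, hvq] at h0
        rw [map_neg]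
        exact eq_neg_of_add_eq_zero_left h0 }
  have hTpow : ∀ f : R, f ^ q ∈ T := fun f => ⟨ι f, R'.algebraMap_mem f, (map_pow ι f q).symm⟩
  have hTG : ∀ g ∈ ((fun c => C c) '' (C0 : Set k)) ∪ Set.range (X : Fin d → R), g ∈ T := fun g hg =>
    ⟨ω g, Algebra.subset_adjoin ⟨g, hg, rfl⟩, hω g⟩
  let k0 : Subfield k :=
    { (T.comap (C : k →+* R)) with
      inv_mem' := fun a ha => by
        rcases eq_or_ne a 0 with rfl | ha0
        · simpa using T.zero_mem
        show C a⁻¹ ∈ T
        obtain ⟨m, hm⟩ := Nat.exists_eq_succ_of_ne_zero hq.ne'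
        have h : a⁻¹ = a ^ m * (a⁻¹) ^ q := by
          rw [hm, pow_succ, ← mul_assoc, ← mul_pow, mul_inv_cancel₀ ha0, one_pow, one_mul]
        rw [h, map_mul, map_pow, map_pow]
        exact T.mul_mem (T.pow_mem ha _) (hTpow _) }
  have hkpow : ∀ a : k, a ^ q ∈ k0 := fun a => by
    show C (a ^ q) ∈ T
    rw [map_pow]; exact hTpow _
  have hC0 : ∀ c ∈ C0, c ∈ k0 := fun c hc => hTG _ (Or.inl ⟨c, hc, rfl⟩)
  have hP0T : P0 k0 ≤ T := by
    rintro _ ⟨f, rfl⟩
    induction f using MvPolynomial.induction_on with
    | C a => rw [map_C]; exact a.2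
    | add f g hf hg => rw [map_add]; exact T.add_mem hf hg
    | mul_X f i hf => rw [map_mul, map_X]; exact T.mul_mem hf (hTG _ (Or.inr ⟨i, rfl⟩))
  have hP0pow : ∀ f : R, f ^ q ∈ P0 k0 := fun f => by
    induction f using MvPolynomial.induction_on with
    | C a => rw [← map_pow]; exact C_mem_P0 (hkpow a)
    | add f g hf hg => rw [add_pow_expChar_pow]; exact Subring.add_mem _ hf hg
    | mul_X f i hf => rw [mul_pow]; exact Subring.mul_mem _ hf (Subring.pow_mem _ (X_mem_P0 k0 i) _)
  let S0 : Subring F := (P0 k0).map (algebraMap R F)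
  let K0 : Subfield F := Subfield.closure (S0 : Set F)
  have hmem : ∀ (f : R), f ∈ P0 k0 → algebraMap R F f ∈ K0 := fun f hf =>
    Subfield.subset_closure ⟨f, hf, rfl⟩
  have hcoef : ∀ (f : R), (∀ c ∈ f.coeffs, c ∈ C0) → f ∈ P0 k0 := fun f hf => mem_P0_of_coeff fun n => by
    by_cases hn : coeff n f = 0
    · rw [hn]; exact k0.zero_mem
    · exact hC0 _ (hf _ (coeff_mem_coeffs n hn))
  have hwK : ∀ i, w i ∈ K0 := fun i => by
    rw [← hrs i]
    exact K0.div_mem (hmem _ (hcoef _ fun c hc => Finset.mem_biUnion.2 ⟨i, Finset.mem_univ _, Finset.mem_union_left _ hc⟩))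
      (hmem _ (hcoef _ fun c hc => Finset.mem_biUnion.2 ⟨i, Finset.mem_univ _, Finset.mem_union_right _ hc⟩))
  have hzK : ∀ z : E, ∃ v ∈ K0, algebraMap F E v = z ^ q := fun z => by
    refine ⟨∑ i, (b.repr z i) ^ q * w i, K0.sum_mem fun i _ => K0.mul_mem ?_ (hwK i), ?_⟩
    · obtain ⟨u, v, -, huv⟩ := IsFractionRing.div_surjective R (b.repr z i)
      rw [← huv, div_pow, ← map_pow, ← map_pow]
      exact K0.div_mem (hmem _ (hP0pow u)) (hmem _ (hP0pow v))
    · conv_rhs => rw [← b.sum_repr z, sum_pow_char_pow]
      simp only [map_sum, map_mul, map_pow, hw, Algebra.smul_def, mul_pow]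
      rfl
  have hroot : ∀ z : E, IsIntegral R z → algebraMap E Ω z ∈ R' := fun z hz => by
    obtain ⟨v, hv, hvz⟩ := hzK z
    have hvint : IsIntegral R v := by
      refine (isIntegral_algebraMap_iff (algebraMap F E).injective).1 ?_
      rw [hvz]; exact hz.pow q
    obtain ⟨f, rfl⟩ := IsIntegrallyClosed.isIntegral_iff.1 hvint
    obtain ⟨y, hy, y', hy', hdiv⟩ := Subfield.mem_closure_iff.1 hv
    rw [Subring.closure_eq] at hy hy'
    obtain ⟨a, ha, rfl⟩ := hy
    obtain ⟨a', ha', rfl⟩ := hy'
    have hfT : f ∈ T := by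
      rcases eq_or_ne a' 0 with rfl | ha0
      · rw [map_zero, div_zero] at hdiv
        rw [(IsFractionRing.injective R F) (hdiv.symm.trans (map_zero _).symm)]
        exact T.zero_mem
      refine hP0T (mem_P0_of_mul k0 ha' ha0 ?_)
      rw [div_eq_iff (fun h => ha0 ((IsFractionRing.injective R F) (h.trans (map_zero _).symm))), ← map_mul] at hdiv
      rw [← IsFractionRing.injective R F hdiv]
      exact ha
    obtain ⟨x, hx, hxq⟩ := hfT
    have hxz : x ^ q = (algebraMap E Ω z) ^ q := by
      rw [hxq, ← map_pow, ← hvz, ← IsScalarTower.algebraMap_apply R F E, ← IsScalarTower.algebraMap_apply R E Ω]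
    have : x = algebraMap E Ω z := (iterateFrobenius_inj Ω p _) (by simpa [iterateFrobenius_def] using hxz)
    rw [← this]; exact hx
  let φ : integralClosure R E →ₗ[R] R' :=
    ((IsScalarTower.toAlgHom R E Ω).toLinearMap.comp (integralClosure R E).val.toLinearMap).codRestrict
      R'.toSubmodule fun z => hroot z.1 z.2
  exact Module.Finite.of_injective φ fun a b h =>
    Subtype.ext ((algebraMap E Ω).injective (congrArg Subtype.val h))

theorem isN2_mvPolynomial : CAlg.IsN2 (MvPolynomial (Fin d) k) :=
  S4562.result _ fun K' _ _ _ _ h1 h2 => @finite_integralClosure_pi k _ d K' _ _ _ _ h1 h2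

theorem finite_integralClosure (k A K L : Type u) [Field k] [CommRing A] [IsDomain A] [Algebra k A]
    [Algebra.FiniteType k A] [Field K] [Field L] [Algebra A K] [IsFractionRing A K] [Algebra K L]
    [FiniteDimensional K L] [Algebra A L] [IsScalarTower A K L] : Module.Finite A (integralClosure A L) := by
  obtain ⟨s, g, hinj, hfin⟩ := exists_finite_inj_algHom_of_fg k A
  let R := MvPolynomial (Fin s) k
  let F := FractionRing R
  letI : Algebra R A := g.toRingHom.toAlgebra
  haveI : Module.Finite R A := hfin
  letI : Algebra R K := ((algebraMap A K).comp (algebraMap R A)).toAlgebra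
  haveI : IsScalarTower R A K := IsScalarTower.of_algebraMap_eq fun _ => rfl
  letI : Algebra R L := ((algebraMap A L).comp (algebraMap R A)).toAlgebra
  haveI : IsScalarTower R A L := IsScalarTower.of_algebraMap_eq fun _ => rfl
  haveI : IsScalarTower R K L := IsScalarTower.of_algebraMap_eq fun x =>
    IsScalarTower.algebraMap_apply A K L (algebraMap R A x)
  have hRL : Function.Injective (algebraMap R L) := fun a b h => hinj
    (IsFractionRing.injective A K ((algebraMap K L).injective
      (by rw [← IsScalarTower.algebraMap_apply, ← IsScalarTower.algebraMap_apply]; exact h)))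
  haveI : FaithfulSMul R L := (faithfulSMul_iff_algebraMap_injective R L).2 hRL
  haveI : FaithfulSMul R K := (faithfulSMul_iff_algebraMap_injective R K).2 fun a b h =>
    hinj (IsFractionRing.injective A K h)
  letI : Algebra F K := FractionRing.liftAlgebra R K
  letI : Algebra F L := FractionRing.liftAlgebra R L
  haveI : IsScalarTower F K L := IsScalarTower.of_algebraMap_eq' (IsLocalization.ringHom_ext (nonZeroDivisors R)
    (by ext x <;> simp [← IsScalarTower.algebraMap_apply]))
  haveI : FaithfulSMul R A := (faithfulSMul_iff_algebraMap_injective R A).2 hinj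
  haveI : Algebra.IsIntegral R A := Algebra.IsIntegral.of_finite R A
  haveI : FiniteDimensional F K := Module.Finite.of_isLocalization R A (nonZeroDivisors R)
  haveI : FiniteDimensional F L := Module.Finite.trans K L
  haveI := isN2_mvPolynomial (k := k) (d := s) L inferInstance
  let φ : integralClosure A L →ₗ[R] integralClosure R L :=
    ((integralClosure A L).val.toLinearMap.restrictScalars R).codRestrict (integralClosure R L).toSubmodule
      fun z => isIntegral_trans (A := A) _ z.2
  haveI : Module.Finite R (integralClosure A L) :=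
    Module.Finite.of_injective φ fun a b h => Subtype.ext (congrArg (fun z : integralClosure R L => (z : L)) h)
  exact Module.Finite.of_restrictScalars_finite R A _

end Groth.Agent.N2Field
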